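import Mathlib

/-!
# A bound for the number of independent elements with a given prime annihilator

Helper for S16158 (bounded number of nonzero summands in direct sum decompositions of a
finite module over a Noetherian ring).
-/

namespace Groth.Agent.Helper19.DecompBound

open Submodule

variable {R : Type*} [CommRing R] {M : Type*} [AddCommGroup M] [Module R M]

/-- Elements `x i` (`i ∈ t`) lying in independent submodules, all with annihilator the prime `p`,
are at most `rank_{R/p} M[p]` many. -/
lemma card_le_of_indep [IsNoetherianRing R] [Module.Finite R M] (p : Ideal R) [p.IsPrime]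
    {ι : Type*} (N : ι → Submodule R M) (hN : iSupIndep N) (t : Finset ι) (x : ι → M)
    (hx : ∀ i ∈ t, x i ∈ N i) (hann : ∀ i ∈ t, ∀ r : R, r • x i = 0 ↔ r ∈ p) :
    t.card ≤ Module.finrank (R ⧸ p) (torsionBySet R M (p : Set R)) := by
  classical
  haveI : IsScalarTower R (R ⧸ p) (torsionBySet R M (p : Set R)) := by
    refine ⟨fun r q y => ?_⟩
    obtain ⟨b, rfl⟩ := Ideal.Quotient.mk_surjective q
    have h0 : r • (Ideal.Quotient.mk p b) = Ideal.Quotient.mk p (r * b) := by
      rw [Algebra.smul_def, Ideal.Quotient.algebraMap_eq, ← map_mul]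
    rw [h0, torsionBySet.mk_smul, torsionBySet.mk_smul, mul_smul]
  haveI : IsNoetherian R M := isNoetherian_of_isNoetherianRing_of_finite R M
  haveI : Module.Finite R (torsionBySet R M (p : Set R)) := inferInstance
  haveI : Module.Finite (R ⧸ p) (torsionBySet R M (p : Set R)) :=
    Module.Finite.of_restrictScalars_finite R _ _
  have hmem : ∀ i : t, x i.1 ∈ torsionBySet R M (p : Set R) := by
    intro i
    rw [mem_torsionBySet_iff]
    intro a
    exact (hann i.1 i.2 a).mpr a.2
  let b : t → torsionBySet R M (p : Set R) := fun i => ⟨x i.1, hmem i⟩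
  have hli : LinearIndependent (R ⧸ p) b := by
    rw [linearIndependent_iff']
    intro s g hsum j hj
    choose a ha using fun i => Ideal.Quotient.mk_surjective (g i)
    have h1 : ∑ i ∈ s, a i • x i.1 = 0 := by
      have h2 : ((∑ i ∈ s, g i • b i : torsionBySet R M (p : Set R)) : M) = 0 := by
        rw [hsum]; rfl
      rw [Submodule.coe_sum] at h2
      rw [← h2]
      refine Finset.sum_congr rfl fun i _ => ?_
      rw [← ha i]
      rfl
    have h3 : a j • x j.1 = -(∑ i ∈ s.erase j, a i • x i.1) := by
      have h := Finset.add_sum_erase s (fun i => a i • x i.1) hj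
      rw [h1] at h
      exact eq_neg_of_add_eq_zero_left h
    have h4 : a j • x j.1 ∈ N j.1 := (N j.1).smul_mem _ (hx j.1 j.2)
    have h5 : a j • x j.1 ∈ ⨆ (k) (_ : k ≠ j.1), N k := by
      rw [h3]
      refine Submodule.neg_mem _ (Submodule.sum_mem _ fun i hi => ?_)
      have hne : i.1 ≠ j.1 := fun h => (Finset.ne_of_mem_erase hi) (Subtype.ext h)
      exact Submodule.mem_iSup_of_mem i.1
        (Submodule.mem_iSup_of_mem hne ((N i.1).smul_mem _ (hx i.1 i.2)))
    have h6 : a j • x j.1 = 0 := Submodule.disjoint_def.mp (hN j.1) _ h4 h5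
    rw [← ha j, Ideal.Quotient.eq_zero_iff_mem]
    exact (hann j.1 j.2 (a j)).mp h6
  have h := hli.fintype_card_le_finrank
  rwa [Fintype.card_coe] at h

/-- Bounded number of nonzero summands. -/
theorem exists_bound (R : Type*) [CommRing R] [IsNoetherianRing R]
    (M : Type*) [AddCommGroup M] [Module R M] [Module.Finite R M] :
    ∃ n : ℕ, ∀ (ι : Type*) (N : ι → Submodule R M), iSupIndep N →
      ∀ t : Finset ι, (∀ i ∈ t, N i ≠ ⊥) → t.card ≤ n := by
  classical
  have hfin : (associatedPrimes R M).Finite := associatedPrimes.finite R M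
  refine ⟨∑ p ∈ hfin.toFinset, Module.finrank (R ⧸ p) (torsionBySet R M (p : Set R)), ?_⟩
  intro ι N hind t ht
  have hdata : ∀ i, N i ≠ ⊥ → ∃ (p : Ideal R) (x : M), p ∈ hfin.toFinset ∧ p.IsPrime ∧ x ∈ N i ∧
      ∀ r : R, r • x = 0 ↔ r ∈ p := by
    intro i hi
    haveI : Nontrivial (N i) := Submodule.nontrivial_iff_ne_bot.mpr hi
    obtain ⟨p, hp⟩ := associatedPrimes.nonempty R (N i)
    have hpM : p ∈ associatedPrimes R M :=
      associatedPrimes.subset_of_injective (f := (N i).subtype) (Submodule.injective_subtype _) hp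
    obtain ⟨hprime, y, hy⟩ := (isAssociatedPrime_iff).mp hp
    refine ⟨p, (y : M), hfin.mem_toFinset.mpr hpM, hprime, y.2, fun r => ?_⟩
    rw [hy, Submodule.mem_colon_singleton, Submodule.mem_bot]
    constructor
    · intro h
      exact Subtype.ext (by simpa using h)
    · intro h
      have := congrArg Subtype.val h
      simpa using this
  choose! P X hPA hPprime hXmem hXann using hdata
  have hmaps : (t : Set ι).MapsTo P hfin.toFinset := fun i hi => hPA i (ht i hi)
  rw [Finset.card_eq_sum_card_fiberwise hmaps]
  refine Finset.sum_le_sum fun p _ => ?_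
  rcases (t.filter (fun i => P i = p)).eq_empty_or_nonempty with h | ⟨i, hi⟩
  · rw [h]; simp
  · obtain ⟨hit, rfl⟩ := Finset.mem_filter.mp hi
    haveI := hPprime i (ht i hit)
    refine card_le_of_indep (P i) N hind _ X (fun j hj => ?_) (fun j hj => ?_)
    · exact hXmem j (ht j (Finset.mem_filter.mp hj).1)
    · have hj' := Finset.mem_filter.mp hj
      rw [← hj'.2]
      exact hXann j (ht j hj'.1)

end Groth.Agent.Helper19.DecompBound
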